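import Groth.Prelude.Def_BigSite

/-!
Base change for big sites: for a cartesian square, `Over.map g ⋙ Over.pullback f` is
`Over.pullback f' ⋙ Over.map g'`.
-/

set_option autoImplicit false

universe v u

open CategoryTheory CategoryTheory.Limits

namespace Groth.Agent.BigBC

variable {C : Type u} [Category.{v} C] [HasPullbacks C]

/-- Beck-Chevalley for over categories along a cartesian square. -/
noncomputable def mapPullbackIso {S T S' T' : C} {f : T ⟶ S} {g : S' ⟶ S} {g' : T' ⟶ T}
    {f' : T' ⟶ S'} (hsq : IsPullback g' f' f g) :
    Over.map g ⋙ Over.pullback f ≅ Over.pullback f' ⋙ Over.map g' :=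
  (NatIso.ofComponents
    (fun U =>
      Over.isoMk
        (((IsPullback.of_hasPullback U.hom f').paste_vert hsq.flip).isoPullback)
        (by
          dsimp
          exact IsPullback.isoPullback_hom_snd _))
    (fun {U V} k => by
      ext
      apply pullback.hom_ext <;> simp
      · erw [pullback.lift_fst, pullback.lift_fst, IsPullback.isoPullback_hom_fst_assoc]
      · erw [pullback.lift_snd_assoc, pullback.lift_snd, IsPullback.isoPullback_hom_snd])).symm

end Groth.Agent.BigBC
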