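import Groth.Agent.ModShf.Flasque
import Mathlib.Algebra.Homology.DerivedCategory.Ext.MapBijective

/-!
Derived functors of a composition with an exact functor preserving injectives on the source side.
-/

set_option autoImplicit false

universe v v' v'' u u' u''

open CategoryTheory CategoryTheory.Limits

namespace Groth.Agent.BigBC

variable {A : Type u} [Category.{v} A] [Abelian A] {B : Type u'} [Category.{v'} B] [Abelian B]
  {C : Type u''} [Category.{v''} C] [Abelian C]

/-- `R^n (G ⋙ F) M ≅ R^n F (G M)` for exact `G` preserving injectives. -/
noncomputable def rightDerivedPrecompIso [HasInjectiveResolutions A] [HasInjectiveResolutions B]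
    (G : A ⥤ B) [G.Additive] [PreservesFiniteLimits G] [PreservesFiniteColimits G]
    [G.PreservesInjectiveObjects] (F : B ⥤ C) [F.Additive] (n : ℕ) (M : A) :
    ((G ⋙ F).rightDerived n).obj M ≅ (F.rightDerived n).obj (G.obj M) :=
  let I := injectiveResolution M
  let J : InjectiveResolution (G.obj M) :=
    { cocomplex := (G.mapHomologicalComplex _).obj I.cocomplex
      injective := fun k => G.injective_obj (I.cocomplex.X k)
      ι := (Groth.Agent.ModShf.AcyclicRes.mapRes G I).ι
      quasiIso := (Groth.Agent.ModShf.AcyclicRes.mapRes G I).qi }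
  I.isoRightDerivedObj (G ⋙ F) n ≪≫ (J.isoRightDerivedObj F n).symm

/-- Isomorphic functors have isomorphic derived functors. -/
noncomputable def rightDerivedCongr [HasInjectiveResolutions A] {F G : A ⥤ B} [F.Additive] [G.Additive]
    (e : F ≅ G) (n : ℕ) : F.rightDerived n ≅ G.rightDerived n where
  hom := NatTrans.rightDerived e.hom n
  inv := NatTrans.rightDerived e.inv n
  hom_inv_id := by rw [← NatTrans.rightDerived_comp, e.hom_inv_id, NatTrans.rightDerived_id]
  inv_hom_id := by rw [← NatTrans.rightDerived_comp, e.inv_hom_id, NatTrans.rightDerived_id]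

end Groth.Agent.BigBC
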