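import Groth.Prelude.Def_BigSite
import Groth.Prelude.Def_EtCore
import Groth.Agent.EtaleSite.AdjExt
import Groth.Agent.EtaleSite.Flasque
import Groth.Agent.FlatLan.Basic

/-!
Comparison of the small étale site and the big étale site: `π⁻¹` is exact, restriction is exact.
-/

set_option autoImplicit false

universe u

open CategoryTheory CategoryTheory.Limits AlgebraicGeometry Opposite

namespace Groth.Agent.BigBC

variable (S : Scheme.{u})

set_option backward.isDefEq.respectTransparency.types false in
instance preservesFiniteLimits_a : PreservesFiniteLimits (EtFppf.a S) :=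
  inferInstanceAs (PreservesFiniteLimits (Scheme.Etale.forget S))

instance representablyFlat_a : RepresentablyFlat (EtFppf.a S) :=
  flat_of_preservesFiniteLimits _

set_option backward.isDefEq.respectTransparency.types false in
instance preservesFiniteLimits_piEtPull (K : Precoverage Scheme.{u}) [BigSite.AEtCont K S] :
    PreservesFiniteLimits (BigSite.piEtPull K S) := by
  have : PreservesFiniteLimits ((EtFppf.a S).op.lan :
      (S.Etaleᵒᵖ ⥤ AddCommGrpCat.{u + 1}) ⥤ _) :=
    FlatLan.preservesFiniteLimits_lan _ _ (fun X _ =>
      FlatLan.hasExactColimitsOfShape_of_essentiallySmall _ _)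
  exact Functor.sheafPullbackConstruction.preservesFiniteLimits _ _ _ _

instance preservesFiniteColimits_piEtPull (K : Precoverage Scheme.{u}) [BigSite.AEtCont K S] :
    PreservesFiniteColimits (BigSite.piEtPull K S) :=
  have := (BigSite.piEtAdj K S).leftAdjoint_preservesColimits
  inferInstance

instance additive_piEtPull (K : Precoverage Scheme.{u}) [BigSite.AEtCont K S] :
    (BigSite.piEtPull K S).Additive :=
  Functor.additive_of_preserves_binary_products _

instance preservesFiniteLimits_resEt (K : Precoverage Scheme.{u}) [BigSite.AEtCont K S] :
    PreservesFiniteLimits (BigSite.resEt K S) :=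
  have := (BigSite.piEtAdj K S).rightAdjoint_preservesLimits
  inferInstance

set_option backward.isDefEq.respectTransparency.types false in
instance preservesFiniteColimits_resEt :
    PreservesFiniteColimits (BigSite.resEt Scheme.etalePrecoverage S) :=
  have := (BigSite.iEtAdj Scheme.etalePrecoverage S).leftAdjoint_preservesColimits
  inferInstance

/-- Restriction to the small étale site has no higher derived functors. -/
theorem isZero_RresEt (q : ℕ) (hq : 0 < q) (F : BigSite.Ab Scheme.etalePrecoverage S) :
    IsZero ((BigSite.RresEt Scheme.etalePrecoverage S q).obj F) := by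
  obtain ⟨k, rfl⟩ : ∃ k, q = k + 1 := ⟨q - 1, by omega⟩
  exact EtaleSite.Flasque.isZero_rightDerived_of_exact _ k F

/-- Restriction to the small étale site preserves injectives. -/
theorem injective_resEt (K : Precoverage Scheme.{u}) [BigSite.AEtCont K S] (I : BigSite.Ab K S)
    [Injective I] : Injective ((BigSite.resEt K S).obj I) :=
  Injective.injective_of_adjoint (BigSite.piEtAdj K S) I

/-- Global sections of the restriction to the small site are global sections. -/
noncomputable def resEtSectionsIso (K : Precoverage Scheme.{u}) [BigSite.AEtCont K S] :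
    BigSite.resEt K S ⋙ EtCore.gsec S ≅
      (sheafSections (QuotSh.J K S) AddCommGrpCat.{u + 1}).obj (op (Over.mk (𝟙 S))) :=
  NatIso.ofComponents (fun _ => Iso.refl _) (fun _ => by cat_disch)

/-- `π⁻¹` of a constant sheaf is the constant sheaf. -/
noncomputable def piEtPullConstIso (K : Precoverage Scheme.{u}) [BigSite.AEtCont K S] :
    constantSheaf S.smallEtaleTopology AddCommGrpCat.{u + 1} ⋙ BigSite.piEtPull K S ≅
      constantSheaf (QuotSh.J K S) AddCommGrpCat.{u + 1} :=
  Adjunction.leftAdjointUniq ((EtCore.constAdj S).comp (BigSite.piEtAdj K S))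
    ((constantSheafAdj (QuotSh.J K S) AddCommGrpCat.{u + 1} Over.mkIdTerminal).ofNatIsoRight
      (resEtSectionsIso S K).symm)

end Groth.Agent.BigBC
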