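import Groth.Agent.BigBC.SmallBig
import Groth.Agent.EtaleSite.AdjExt
import Groth.Agent.S6184

/-!
`π⁻¹` commutes with inverse images, and restricts to them.
-/

set_option autoImplicit false

universe u

open CategoryTheory CategoryTheory.Limits AlgebraicGeometry Opposite

namespace Groth.Agent.BigBC

variable {S T : Scheme.{u}} (f : T ⟶ S)

/-- Base change of an étale scheme, as a scheme over the source. -/
noncomputable def aPullbackIso : EtFppf.a S ⋙ Over.pullback f ≅ EtCoh.bc f ⋙ EtFppf.a T :=
  (MorphismProperty.Over.pullbackCompForgetIso (P := EtCoh.etaleMP) (Q := ⊤) f).symm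

/-- Big direct image restricts to small direct image. -/
noncomputable def pushBigResIso :
    BigSite.pushBig Scheme.etalePrecoverage f AddCommGrpCat.{u + 1} ⋙
        BigSite.resEt Scheme.etalePrecoverage S ≅
      BigSite.resEt Scheme.etalePrecoverage T ⋙ EtCoh.push f :=
  haveI : (EtCoh.bc f ⋙ EtFppf.a T).IsContinuous S.smallEtaleTopology
      (QuotSh.J Scheme.etalePrecoverage T) :=
    Functor.isContinuous_comp _ _ _ T.smallEtaleTopology _
  Functor.sheafPushforwardContinuousComp' (aPullbackIso f) _ _ _ _ ≪≫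
    (Functor.sheafPushforwardContinuousComp _ _ _ _ _ _).symm

/-- `f_big⁻¹ π_S⁻¹ = π_T⁻¹ f⁻¹`. -/
noncomputable def piPullBigIso :
    BigSite.piEtPull Scheme.etalePrecoverage S ⋙
        BigSite.pullBig Scheme.etalePrecoverage f AddCommGrpCat.{u + 1} ≅
      EtCoh.pull f ⋙ BigSite.piEtPull Scheme.etalePrecoverage T :=
  Adjunction.leftAdjointUniq
    ((BigSite.piEtAdj Scheme.etalePrecoverage S).comp
      (BigSite.bigAdj Scheme.etalePrecoverage f AddCommGrpCat.{u + 1}))
    (((EtCoh.pullPushAdj f).comp (BigSite.piEtAdj Scheme.etalePrecoverage T)).ofNatIsoRight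
      (pushBigResIso f).symm)

/-- The unit of `π⁻¹ ⊣ π_*` as a natural isomorphism. -/
noncomputable def unitIso (S : Scheme.{u}) :
    𝟭 (EtCoh.Ab S) ≅ BigSite.piEtPull Scheme.etalePrecoverage S ⋙ BigSite.resEt Scheme.etalePrecoverage S :=
  haveI : IsIso (BigSite.piEtAdj Scheme.etalePrecoverage S).unit :=
    haveI : ∀ G, IsIso ((BigSite.piEtAdj Scheme.etalePrecoverage S).unit.app G) :=
      (Groth.Agent.S6184.result S).2
    NatIso.isIso_of_isIso_app _
  asIso (BigSite.piEtAdj Scheme.etalePrecoverage S).unit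

/-- The restriction of `π_S⁻¹ F` to the small site of `T` is `f⁻¹ F`. -/
noncomputable def resAlongPiIso :
    BigSite.piEtPull Scheme.etalePrecoverage S ⋙ BigSite.resEtAlong Scheme.etalePrecoverage f ≅
      EtCoh.pull f :=
  (Functor.associator _ _ _).symm ≪≫ Functor.isoWhiskerRight (piPullBigIso f) _ ≪≫
    Functor.associator _ _ _ ≪≫ Functor.isoWhiskerLeft _ (unitIso T).symm ≪≫ Functor.rightUnitor _

/-- Sections of a sheaf on the big site over `T → S` are sections over `T` of its restriction. -/
noncomputable def sectResAlongIso (G : BigSite.Ab Scheme.etalePrecoverage S) :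
    ((BigSite.resEtAlong Scheme.etalePrecoverage f).obj G).obj.obj (op (EtCoh.top T)) ≅
      G.obj.obj (op (Over.mk f)) :=
  G.obj.mapIso (Over.isoMk (Iso.refl T) ((Category.id_comp _).trans (Category.id_comp _)) :
    Over.mk f ≅ (Over.map f).obj ((EtFppf.a T).obj (EtCoh.top T))).op

/-- Sections of `π_S⁻¹ F` over `T → S` are global sections of `f⁻¹ F`. -/
noncomputable def sectPiIso (F : EtCoh.Ab S) :
    ((BigSite.piEtPull Scheme.etalePrecoverage S).obj F).obj.obj (op (Over.mk f)) ≅
      ((EtCoh.pull f).obj F).obj.obj (op (EtCoh.top T)) :=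
  (sectResAlongIso f _).symm ≪≫
    ((sheafSections T.smallEtaleTopology AddCommGrpCat.{u + 1}).obj (op (EtCoh.top T))).mapIso
      ((resAlongPiIso f).app F)

end Groth.Agent.BigBC
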