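import Groth.Agent.BigBC.Rigid
import Groth.Agent.BigBC.PiPull
import Mathlib.AlgebraicGeometry.Sites.Fpqc

/-!
`π⁻¹F` is a sheaf for the fpqc topology.
-/

set_option autoImplicit false
set_option linter.style.haveILetI false
set_option backward.isDefEq.respectTransparency.types false

universe w u

open CategoryTheory CategoryTheory.Limits AlgebraicGeometry Opposite

namespace Groth.Agent.BigBC

/-- A set is open if its preimages along a quasi-compact flat covering are open. -/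
theorem isOpen_of_qc_flat_cover {X : Scheme.{u}} (E : PreZeroHypercover.{w} X) [QuasiCompactCover E]
    (hflat : ∀ i, Flat (E.f i)) (O : Set X) (hO : ∀ i, IsOpen ((E.f i).base ⁻¹' O)) : IsOpen O := by
  refine isOpen_iff_forall_mem_open.2 fun x hx => ?_
  obtain ⟨U, hU, hxU, -⟩ := exists_isAffineOpen_mem_and_subset (TopologicalSpace.Opens.mem_top x)
  haveI : IsAffine (U : Scheme.{u}) := hU
  obtain ⟨n, a, V, hV, hcov⟩ := QuasiCompactCover.exists_isAffineOpen_of_isCompact E hU.isCompact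
  have hle : ∀ k, V k ≤ E.f (a k) ⁻¹ᵁ U := fun k z hz => hcov.le (Set.mem_iUnion.2 ⟨k, z, hz, rfl⟩)
  let Vs : ULift.{u} (Fin n) → Scheme.{u} := fun k => (V k.down : Scheme.{u})
  let φ : ∀ k, Vs k ⟶ (U : Scheme.{u}) := fun k => (E.f (a k.down)).resLE U (V k.down) (hle k.down)
  haveI : ∀ k, IsAffine (Vs k) := fun k => hV k.down
  haveI : ∀ k, Flat (φ k) := fun k => by
    haveI := hflat (a k.down)
    exact inferInstanceAs (Flat ((E.f (a k.down)).resLE U (V k.down) (hle k.down)))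
  let D : (∐ Vs) ⟶ (U : Scheme.{u}) := Sigma.desc φ
  haveI : Flat D := IsZariskiLocalAtSource.sigmaDesc (fun k => inferInstance)
  haveI : Surjective D := ⟨fun y => by
    obtain ⟨k, z, hz, hzy⟩ := Set.mem_iUnion.1 (hcov.ge y.2)
    refine ⟨Sigma.ι Vs ⟨k⟩ ⟨z, hz⟩, U.ι.isOpenEmbedding.injective ?_⟩
    change ((Sigma.ι Vs ⟨k⟩ ≫ D) ≫ U.ι) ⟨z, hz⟩ = U.ι y
    rw [Sigma.ι_desc, Scheme.Hom.resLE_comp_ι]
    exact hzy⟩
  have hq := Flat.isQuotientMap_of_surjective D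
  refine ⟨O ∩ U, Set.inter_subset_left, ?_, hx, hxU⟩
  have : IsOpen (U.ι.base ⁻¹' O) := by
    rw [← hq.isOpen_preimage, ← (sigmaMk Vs).isOpen_preimage, isOpen_sigma_iff]
    rintro ⟨k⟩
    have he : (Sigma.mk (ULift.up k) ⁻¹' (sigmaMk Vs ⁻¹' (D.base ⁻¹' (U.ι.base ⁻¹' O)))) =
        (V k).ι.base ⁻¹' ((E.f (a k)).base ⁻¹' O) := by
      ext z
      simp only [Set.mem_preimage, sigmaMk_mk]
      change ((Sigma.ι Vs ⟨k⟩ ≫ D) ≫ U.ι) z ∈ O ↔ ((V k).ι ≫ E.f (a k)) z ∈ O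
      rw [Sigma.ι_desc, Scheme.Hom.resLE_comp_ι]
    rw [he]
    exact (hO (a k)).preimage (V k).ι.continuous
  have h2 := U.ι.isOpenEmbedding.isOpenMap _ this
  rwa [Set.image_preimage_eq_inter_range, Scheme.Opens.range_ι] at h2

variable {S : Scheme.{u}}

/-- `π⁻¹F` satisfies descent for fpqc coverings. -/
theorem isSheaf_fpqc_piEtPull (F : EtCoh.Ab S) :
    Presheaf.IsSheaf (QuotSh.J Scheme.fpqcPrecoverage S)
      ((BigSite.piEtPull Scheme.etalePrecoverage S).obj F).obj := by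
  rw [Presheaf.isSheaf_iff_isSheaf_forget _ _ (forget AddCommGrpCat.{u + 1}), isSheaf_iff_isSheaf_of_type]
  intro T R hR
  rw [GrothendieckTopology.mem_over_iff,
    Precoverage.mem_toGrothendieck_iff_of_isStableUnderComposition] at hR
  obtain ⟨Rp, hRp, hle⟩ := hR
  obtain ⟨𝒰, h𝒰, rfl⟩ := Scheme.mem_propQCPrecoverage_iff_exists_quasiCompactCover.1 hRp
  have hk : ∀ i, R (Over.homMk (𝒰.f i) : Over.mk (𝒰.f i ≫ T.hom) ⟶ T) := fun i =>
    (Sieve.overEquiv_iff R _).1 (hle _ _ ⟨i⟩)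
  refine isSheafFor_of_submersive (isRigid_piEtPull F) R (fun Y s y => ?_) (fun v => ?_) ?_
  · obtain ⟨W, g, w, U, x, u, he, hw, hu⟩ := exists_localForm F s y
    exact ⟨W, g, w, he, hw, (EtFppf.a S).obj U, x, _, U.prop, hu⟩
  · obtain ⟨y, hy⟩ := 𝒰.covers v
    exact ⟨_, _, y, hk _, hy⟩
  · intro W g _ O hO
    refine isOpen_of_qc_flat_cover (𝒰.toPreZeroHypercover.pullback₁ g.left)
      (fun i => MorphismProperty.pullback_fst (P := @Flat) _ _ (𝒰.map_prop i)) O fun i => ?_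
    exact hO _ _ (hk i)

end Groth.Agent.BigBC
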