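import Mathlib.Algebra.Homology.HomotopyCategory.KInjective
import Mathlib.Algebra.Homology.QuasiIso
import Mathlib.CategoryTheory.Abelian.Exact

/-!
A right adjoint of an exact functor preserves K-injective complexes.
-/

set_option autoImplicit false

universe v v' u u'

open CategoryTheory CategoryTheory.Limits

namespace Groth.Agent.BigBC

variable {C : Type u} [Category.{v} C] [Abelian C] {D : Type u'} [Category.{v'} D] [Abelian D]
  {L : D ⥤ C} [L.Additive] [PreservesFiniteLimits L] [PreservesFiniteColimits L]
  {R : C ⥤ D} [R.Additive] (adj : L ⊣ R)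

omit [L.Additive] in
include adj in
/-- A right adjoint of an exact functor preserves K-injective complexes. -/
theorem isKInjective_map [L.Additive] (I : CochainComplex C ℤ) [I.IsKInjective] :
    CochainComplex.IsKInjective ((R.mapHomologicalComplex (ComplexShape.up ℤ)).obj I) where
  nonempty_homotopy_zero {K} f hK := by
    let g : (L.mapHomologicalComplex (ComplexShape.up ℤ)).obj K ⟶ I :=
      { f := fun n => (adj.homEquiv _ _).symm (f.f n)
        comm' := fun i j _ => by
          change (adj.homEquiv _ _).symm (f.f i) ≫ I.d i j = L.map (K.d i j) ≫ (adj.homEquiv _ _).symm (f.f j)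
          exact (adj.homEquiv_naturality_right_symm (f.f i) (I.d i j)).symm.trans
            ((congrArg _ (f.comm i j)).trans (adj.homEquiv_naturality_left_symm (K.d i j) (f.f j))) }
    have hLK : HomologicalComplex.Acyclic ((L.mapHomologicalComplex (ComplexShape.up ℤ)).obj K) := by
      intro n
      exact (hK n).map L
    let h := CochainComplex.IsKInjective.homotopyZero g hLK
    let u : K ⟶ (R.mapHomologicalComplex _).obj ((L.mapHomologicalComplex (ComplexShape.up ℤ)).obj K) :=
      { f := fun n => adj.unit.app (K.X n)
        comm' := fun i j _ => by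
          exact (adj.unit.naturality (K.d i j)).symm }
    refine ⟨(Homotopy.ofEq ?_).trans (((R.mapHomotopy h).compLeft u).trans (Homotopy.ofEq ?_))⟩
    · ext n
      change f.f n = adj.unit.app (K.X n) ≫ R.map ((adj.homEquiv _ _).symm (f.f n))
      exact ((Equiv.apply_symm_apply (adj.homEquiv _ _) (f.f n)).symm.trans (adj.homEquiv_unit ..))
    · simp

end Groth.Agent.BigBC
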