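import Groth.Agent.BigBC.Point
import Mathlib.CategoryTheory.Sites.LocallySurjective

/-!
Sections of `π⁻¹F` come locally from étale schemes over the base.
-/

set_option autoImplicit false
set_option linter.style.haveILetI false
set_option backward.isDefEq.respectTransparency.types false

universe u

open CategoryTheory CategoryTheory.Limits AlgebraicGeometry Opposite

namespace Groth.Agent.BigBC

variable {S : Scheme.{u}}

/-- A morphism out of a left Kan extension, evaluated on the sections coming from the source. -/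
theorem lan_app_mem (F : S.Etaleᵒᵖ ⥤ AddCommGrpCat.{u + 1}) (T : (Over S)ᵒᵖ)
    (y : ((EtFppf.a S).op.lan.obj F).obj T) :
    ∃ (U : S.Etale) (x : T.unop ⟶ (EtFppf.a S).obj U) (u : F.obj (op U)),
      ((EtFppf.a S).op.lan.obj F).map x.op (((EtFppf.a S).op.lanUnit.app F).app (op U) u) = y := by
  let G := (EtFppf.a S).op.lan.obj F
  let η := (EtFppf.a S).op.lanUnit.app F
  let M : Set (G.obj T) := {y | ∃ (U : S.Etale) (x : T.unop ⟶ (EtFppf.a S).obj U) (u : F.obj (op U)),
    G.map x.op (η.app (op U) u) = y}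
  let L := Functor.isPointwiseLeftKanExtensionLeftKanExtensionUnit (EtFppf.a S).op F T
  let H := AddSubgroup.closure M
  have hH : H = ⊤ := by
    let π : G.obj T ⟶ AddCommGrpCat.of (G.obj T ⧸ H) := AddCommGrpCat.ofHom (QuotientAddGroup.mk' H)
    have hπ : π = 0 := L.hom_ext fun j => by
      ext u
      change QuotientAddGroup.mk' H (G.map j.hom (η.app j.left u)) = 0
      exact (QuotientAddGroup.eq_zero_iff _).2 (AddSubgroup.subset_closure
        ⟨j.left.unop, j.hom.unop, u, rfl⟩)
    exact eq_top_iff.2 fun z _ => (QuotientAddGroup.eq_zero_iff z).1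
      (congrArg (fun k => k z) hπ)
  have hy : y ∈ H := by rw [hH]; exact AddSubgroup.mem_top y
  change y ∈ M
  induction hy using AddSubgroup.closure_induction with
  | mem z hz => exact hz
  | zero =>
    let x₀ : T.unop ⟶ (EtFppf.a S).obj (EtCoh.top S) := Over.homMk T.unop.hom (Category.comp_id _)
    exact ⟨EtCoh.top S, x₀, 0, by rw [map_zero, map_zero]⟩
  | neg z _ h =>
    obtain ⟨U, x, u, h⟩ := h
    exact ⟨U, x, -u, by rw [map_neg, map_neg, h]⟩
  | add z₁ z₂ _ _ h₁ h₂ =>
    obtain ⟨U₁, x₁, u₁, rfl⟩ := h₁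
    obtain ⟨U₂, x₂, u₂, rfl⟩ := h₂
    haveI : HasLimit (pair U₁ U₂) := inferInstance
    let W : S.Etale := U₁ ⨯ U₂
    let x : T.unop ⟶ (EtFppf.a S).obj W :=
      prod.lift x₁ x₂ ≫ (PreservesLimitPair.iso (EtFppf.a S) U₁ U₂).inv
    have hx₁ : x ≫ (EtFppf.a S).map prod.fst = x₁ := by
      exact (Category.assoc _ _ _).trans ((congrArg (prod.lift x₁ x₂ ≫ ·)
        (PreservesLimitPair.iso_inv_fst (EtFppf.a S) U₁ U₂)).trans (prod.lift_fst _ _))
    have hx₂ : x ≫ (EtFppf.a S).map prod.snd = x₂ := by
      exact (Category.assoc _ _ _).trans ((congrArg (prod.lift x₁ x₂ ≫ ·)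
        (PreservesLimitPair.iso_inv_snd (EtFppf.a S) U₁ U₂)).trans (prod.lift_snd _ _))
    refine ⟨W, x, F.map prod.fst.op u₁ + F.map prod.snd.op u₂, ?_⟩
    rw [map_add, map_add]
    conv_rhs => rw [← hx₁, ← hx₂]
    simp only [op_comp, Functor.map_comp, ConcreteCategory.comp_apply]
    congr 1
    · exact congrArg _ (NatTrans.naturality_apply η prod.fst.op u₁)
    · exact congrArg _ (NatTrans.naturality_apply η prod.snd.op u₂)

/-- Sections of `π⁻¹F` are, étale locally, pulled back from étale schemes over `S`. -/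
theorem exists_localForm (F : EtCoh.Ab S) {T : Over S}
    (s : ((BigSite.piEtPull Scheme.etalePrecoverage S).obj F).obj.obj (op T)) (v : T.left) :
    ∃ (W : Over S) (g : W ⟶ T) (w : W.left) (U : S.Etale) (x : W ⟶ (EtFppf.a S).obj U)
      (u : F.obj.obj (op U)), Etale g.left ∧ g.left w = v ∧
      ((BigSite.piEtPull Scheme.etalePrecoverage S).obj F).obj.map g.op s =
        ((BigSite.piEtPull Scheme.etalePrecoverage S).obj F).obj.map x.op
          (((BigSite.piEtAdj Scheme.etalePrecoverage S).unit.app F).hom.app (op U) u) := by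
  let K := QuotSh.J Scheme.etalePrecoverage S
  let P := (BigSite.piEtPull Scheme.etalePrecoverage S).obj F
  let adj₂ := Functor.sheafPullbackConstruction.sheafAdjunctionContinuous (EtFppf.a S)
    AddCommGrpCat.{u + 1} S.smallEtaleTopology K
  let e := (Adjunction.leftAdjointUniq adj₂ (BigSite.piEtAdj Scheme.etalePrecoverage S)).app F
  let G := (EtFppf.a S).op.lan.obj F.obj
  let L : G ⟶ P.obj := toSheafify K G ≫ e.hom.hom
  have hη : ∀ (U : S.Etale) (u : F.obj.obj (op U)),
      ((BigSite.piEtAdj Scheme.etalePrecoverage S).unit.app F).hom.app (op U) u =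
        L.app (op ((EtFppf.a S).obj U)) (((EtFppf.a S).op.lanUnit.app F.obj).app (op U) u) := by
    intro U u
    have h₁ : adj₂.unit.app F ≫ (BigSite.resEt Scheme.etalePrecoverage S).map e.hom =
        (BigSite.piEtAdj Scheme.etalePrecoverage S).unit.app F :=
      Adjunction.unit_leftAdjointUniq_hom_app adj₂ (BigSite.piEtAdj Scheme.etalePrecoverage S) F
    have h₂ : (adj₂.unit.app F).hom = (EtFppf.a S).op.lanUnit.app F.obj ≫
        Functor.whiskerLeft (EtFppf.a S).op (toSheafify K G) := by
      have h := Adjunction.map_restrictFullyFaithful_unit_app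
        (adj := ((EtFppf.a S).op.lanAdjunction AddCommGrpCat.{u + 1}).comp
          (sheafificationAdjunction K AddCommGrpCat.{u + 1}))
        (iC := sheafToPresheaf S.smallEtaleTopology AddCommGrpCat.{u + 1})
        (iD := 𝟭 (Sheaf K AddCommGrpCat.{u + 1}))
        (hiC := fullyFaithfulSheafToPresheaf S.smallEtaleTopology AddCommGrpCat.{u + 1})
        (hiD := Functor.FullyFaithful.id _)
        (L := Functor.sheafPullbackConstruction.sheafPullback (EtFppf.a S) AddCommGrpCat.{u + 1}
          S.smallEtaleTopology K)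
        (R := (EtFppf.a S).sheafPushforwardContinuous AddCommGrpCat.{u + 1} S.smallEtaleTopology K)
        (comm1 := Iso.refl _) (comm2 := Iso.refl _) F
      refine h.trans ?_
      simp [G, K]
      rfl
    rw [← h₁]
    change e.hom.hom.app _ ((adj₂.unit.app F).hom.app (op U) u) = _
    rw [h₂]
    rfl
  obtain ⟨W, g, w, ⟨y, hy⟩, he, hw⟩ :=
    exists_etale_of_mem _ (Presheaf.imageSieve_mem K (toSheafify K G) (e.inv.hom.app (op T) s)) v
  obtain ⟨U, x, u, rfl⟩ := lan_app_mem F.obj (op W) y
  refine ⟨W, g, w, U, x, u, he, hw, ?_⟩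
  rw [hη]
  have h4 : P.obj.map g.op s = L.app (op W) (G.map x.op
      (((EtFppf.a S).op.lanUnit.app F.obj).app (op U) u)) := by
    refine Eq.trans ?_ (congrArg (e.hom.hom.app (op W)) hy).symm
    exact (congrArg (fun k => k.hom.app (op W) (P.obj.map g.op s)) e.inv_hom_id).symm.trans
      (congrArg (e.hom.hom.app (op W)) (NatTrans.naturality_apply e.inv.hom g.op s))
  exact h4.trans (NatTrans.naturality_apply L x.op _)

end Groth.Agent.BigBC
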