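import Groth.Agent.BigBC.SmallBig
import Groth.Agent.EtaleSite.PushStalk
import Mathlib.CategoryTheory.Sites.Point.Comap

/-!
Étale covers on the big site, geometric points of the big étale site.
-/

set_option autoImplicit false
set_option linter.style.haveILetI false
set_option backward.isDefEq.respectTransparency.types false

universe u

open CategoryTheory CategoryTheory.Limits AlgebraicGeometry Opposite
open Groth.Agent.EtaleSite

namespace Groth.Agent.BigBC

variable {S : Scheme.{u}}

theorem exists_etale_of_mem {T : Over S} (R : Sieve T)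
    (hR : R ∈ QuotSh.J Scheme.etalePrecoverage S T) (v : T.left) :
    ∃ (W : Over S) (g : W ⟶ T) (w : W.left), R g ∧ Etale g.left ∧ g.left w = v := by
  have h : Sieve.overEquiv T R ∈ Scheme.etaleTopology T.left := (GrothendieckTopology.mem_over_iff _ _).1 hR
  obtain ⟨𝒰, hle⟩ := Scheme.exists_cover_of_mem_grothendieckTopology h
  obtain ⟨i, w, hw⟩ := 𝒰.exists_eq v
  exact ⟨Over.mk (𝒰.f i ≫ T.hom), Over.homMk (𝒰.f i), w,
    (Sieve.overEquiv_iff R (𝒰.f i)).1 (hle _ _ ⟨i⟩), 𝒰.map_prop i, hw⟩

theorem mem_of_forall_etale {T : Over S} (R : Sieve T)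
    (h : ∀ v : T.left, ∃ (W : Over S) (g : W ⟶ T) (w : W.left), R g ∧ Etale g.left ∧ g.left w = v) :
    R ∈ QuotSh.J Scheme.etalePrecoverage S T := by
  refine (GrothendieckTopology.mem_over_iff _ _).2 ?_
  choose W g w hg he hw using h
  let 𝒰 : Scheme.Cover.{u} (Scheme.precoverage @Etale) T.left :=
    Scheme.Cover.mkOfCovers T.left (fun v => (W v).left) (fun v => (g v).left)
      (fun v => ⟨v, w v, hw v⟩) he
  refine Scheme.mem_grothendieckTopology_iff.2 ⟨𝒰, ?_⟩
  rintro Z k ⟨v⟩
  refine (Sieve.overEquiv_iff R _).2 ?_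
  let i : Over.mk ((g v).left ≫ T.hom) ≅ W v := Over.isoMk (Iso.refl _) (by simp)
  have : (Over.homMk (g v).left : Over.mk ((g v).left ≫ T.hom) ⟶ T) = i.hom ≫ g v := by
    ext; simp [i]
  exact Eq.subst (motive := fun k => R k) this.symm (R.downward_closed (hg v) i.hom)

variable {Ω : Type u} [Field Ω] [IsSepClosed Ω] (ξ : Spec (CommRingCat.of Ω) ⟶ S)

/-- A geometric point gives a point of the big étale site. -/
noncomputable abbrev bigPoint : GrothendieckTopology.Point.{u} (QuotSh.J Scheme.etalePrecoverage S) where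
  fiber := coyoneda.obj (op (Over.mk ξ))
  isCofiltered := IsCofiltered.of_isInitial _
    (Functor.Elements.isInitialOfCorepresentableBy (Functor.corepresentableByEquiv.symm (Iso.refl _)))
  initiallySmall :=
    haveI : HasInitial (coyoneda.obj (op (Over.mk ξ))).Elements :=
      (Functor.Elements.isInitialOfCorepresentableBy
        (Functor.corepresentableByEquiv.symm (Iso.refl _))).hasInitial
    inferInstance
  jointly_surjective {T} R hR x := by
    obtain ⟨W, g, w, hg, he, hw⟩ := exists_etale_of_mem R hR (x.left (default : Spec (CommRingCat.of Ω)))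
    obtain ⟨l, h₁, -⟩ := Scheme.exists_fac_of_etale_of_isSepClosed g.left x.left w hw
    refine ⟨W, g, hg, (Over.homMk l ?_ : Over.mk ξ ⟶ W), Over.OverMorphism.ext h₁⟩
    change l ≫ W.hom = ξ
    rw [← Over.w g, reassoc_of% h₁]
    exact Over.w x

theorem coverPreserving_a : CoverPreserving S.smallEtaleTopology (QuotSh.J Scheme.etalePrecoverage S)
    (EtFppf.a S) := by
  constructor
  intro U R hR
  refine mem_of_forall_etale _ fun u => ?_
  obtain ⟨ι, Z, f, rfl⟩ := R.exists_eq_ofArrows
  rw [Scheme.ofArrows_mem_smallEtaleTopology_iff] at hR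
  obtain ⟨_, ⟨i, rfl⟩, w, hw⟩ : u ∈ ⋃ i, Set.range (f i).left := hR ▸ Set.mem_univ _
  refine ⟨(EtFppf.a S).obj (Z i), (EtFppf.a S).map (f i), w,
    Sieve.image_mem_functorPushforward _ _ (Sieve.ofArrows_mk _ _ _), ?_, hw⟩
  haveI : Etale U.hom := U.prop
  haveI : Etale ((f i).left ≫ U.hom) := by rw [MorphismProperty.Over.w (f i)]; exact (Z i).prop
  exact Etale.of_comp (f i).left U.hom

/-- A section vanishing at a geometric point has zero germ there. -/
theorem germ_eq_zero_of_map (G : BigSite.Ab Scheme.etalePrecoverage S) {T : Over S}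
    (t : Over.mk ξ ⟶ T) (s : G.obj.obj (op T)) (h : G.obj.map t.op s = 0) :
    (bigPoint ξ).toPresheafFiber T t G.obj s = 0 := by
  have e := (bigPoint ξ).toPresheafFiber_w_apply t (𝟙 (Over.mk ξ) : Over.mk ξ ⟶ Over.mk ξ) G.obj s
  rw [h, map_zero] at e
  exact (congrArg (fun k : Over.mk ξ ⟶ T => (bigPoint ξ).toPresheafFiber T k G.obj s)
    (Category.id_comp t).symm).trans e.symm

set_option backward.isDefEq.respectTransparency.types false in
/-- The stalk of `π⁻¹F` at a geometric point is the stalk of `F`. -/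
theorem exists_stalk_comparison (F : EtCoh.Ab S) :
    ∃ θ : (Scheme.pointSmallEtale ξ).sheafFiber.obj F ⟶
        (bigPoint ξ).sheafFiber.obj ((BigSite.piEtPull Scheme.etalePrecoverage S).obj F),
      Function.Injective θ ∧ ∀ (U : S.Etale) (x : (Scheme.pointSmallEtale ξ).fiber.obj U)
        (u : F.obj.obj (op U)), θ (germ ξ F U x u) =
          (bigPoint ξ).toPresheafFiber ((EtFppf.a S).obj U) x
            ((BigSite.piEtPull Scheme.etalePrecoverage S).obj F).obj
            (((BigSite.piEtAdj Scheme.etalePrecoverage S).unit.app F).hom.app (op U) u) := by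
  let Φ := bigPoint ξ
  haveI : InitiallySmall.{u} (EtFppf.a S ⋙ Φ.fiber).Elements :=
    (Scheme.pointSmallEtale ξ).initiallySmall
  let Φ' := Φ.comap (EtFppf.a S) (coverPreserving_a (S := S))
  let A := AddCommGrpCat.{u + 1}
  let adj := BigSite.piEtAdj Scheme.etalePrecoverage S
  haveI : ((EtFppf.a S).sheafPushforwardContinuous A S.smallEtaleTopology
      (QuotSh.J Scheme.etalePrecoverage S)).IsRightAdjoint := adj.isRightAdjoint
  let θ := (Φ.sheafFiberComapIso (EtFppf.a S) (coverPreserving_a (S := S)) A).app F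
  refine ⟨θ.hom, θ.addCommGroupIsoToAddEquiv.injective, fun U x u => ?_⟩
  let M := Φ.sheafFiber.obj ((BigSite.piEtPull Scheme.etalePrecoverage S).obj F)
  have key := congrArg (fun k => k.hom.app (op U) ≫ Pi.π (fun _ : Φ'.fiber.obj U => M) x)
    (unit_conjugateEquiv_symm (adj.comp Φ.skyscraperSheafAdjunction)
      Φ'.skyscraperSheafAdjunction
      (Φ.skyscraperSheafFunctorCompSheafPushforwardContinuous (EtFppf.a S)
        (coverPreserving_a (S := S)) A).hom F)
  have h1 := skyscraper_homEquiv_π Φ' F _ θ.hom U x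
  have h2 : (Φ.skyscraperSheafAdjunction.unit.app ((BigSite.piEtPull Scheme.etalePrecoverage S).obj F)).hom.app
        (op ((EtFppf.a S).obj U)) ≫ Pi.π (fun _ : Φ.fiber.obj ((EtFppf.a S).obj U) => M) x =
      Φ.toPresheafFiber ((EtFppf.a S).obj U) x _ := by
    rw [← Adjunction.homEquiv_id]
    exact (skyscraper_homEquiv_π Φ _ _ _ _ _).trans (Category.comp_id _)
  rw [Adjunction.homEquiv_unit] at h1
  refine congrArg (fun k => k u) (h1.symm.trans (key.symm.trans ?_) : Φ'.toPresheafFiber U x F.obj ≫ θ.hom =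
    (adj.unit.app F).hom.app (op U) ≫ Φ.toPresheafFiber ((EtFppf.a S).obj U) x _)
  rw [Adjunction.comp_unit_app]
  refine Eq.trans ?_ (congrArg ((adj.unit.app F).hom.app (op U) ≫ ·) h2)
  rfl

end Groth.Agent.BigBC
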