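import Groth.Agent.BigBC.LocalForm

/-!
Rigid sheaves on the big étale site (sections vanishing at a geometric point vanish nearby), and
their descent along covering families of submersive type.
-/

set_option autoImplicit false
set_option linter.style.haveILetI false
set_option backward.isDefEq.respectTransparency.types false

universe u

open CategoryTheory CategoryTheory.Limits AlgebraicGeometry Opposite
open Groth.Agent.EtaleSite

namespace Groth.Agent.BigBC

variable {S : Scheme.{u}} (P : BigSite.Ab Scheme.etalePrecoverage S)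

/-- The section `s` vanishes on an étale neighbourhood of `v`. -/
def VanishAt {T : Over S} (s : P.obj.obj (op T)) (v : T.left) : Prop :=
  ∃ (W : Over S) (g : W ⟶ T) (w : W.left), Etale g.left ∧ g.left w = v ∧ P.obj.map g.op s = 0

/-- Sections vanishing at a geometric point vanish nearby. -/
def IsRigid : Prop :=
  ∀ (T : Over S) (s : P.obj.obj (op T)) (Ω : Type u) [Field Ω] [IsSepClosed Ω]
    (ξ : Spec (CommRingCat.of Ω) ⟶ S) (t : Over.mk ξ ⟶ T),
    P.obj.map t.op s = 0 → VanishAt P s (t.left (default : Spec (CommRingCat.of Ω)))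

theorem map_comp_apply' {A B C : Over S} (a : A ⟶ B) (b : B ⟶ C) (s : P.obj.obj (op C)) :
    P.obj.map (a ≫ b).op s = P.obj.map a.op (P.obj.map b.op s) := by
  rw [op_comp, Functor.map_comp, ConcreteCategory.comp_apply]

theorem exists_point (T : Over S) (v : T.left) :
    ∃ (Ω : Type u) (_ : Field Ω) (_ : IsSepClosed Ω) (ξ : Spec (CommRingCat.of Ω) ⟶ S)
      (t : Over.mk ξ ⟶ T), t.left (default : Spec (CommRingCat.of Ω)) = v :=
  ⟨SeparableClosure (T.left.residueField v), inferInstance, inferInstance,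
    geomPointAt T.left v ≫ T.hom, Over.homMk (geomPointAt T.left v) rfl, geomPointAt_apply T.left v _⟩

variable {P}

theorem map_eq_zero_of_vanishAt {T : Over S} {s : P.obj.obj (op T)} {Ω : Type u} [Field Ω]
    [IsSepClosed Ω] {ξ : Spec (CommRingCat.of Ω) ⟶ S} (t : Over.mk ξ ⟶ T)
    (h : VanishAt P s (t.left (default : Spec (CommRingCat.of Ω)))) : P.obj.map t.op s = 0 := by
  obtain ⟨W, g, w, he, hw, hg⟩ := h
  obtain ⟨l, h₁, -⟩ := Scheme.exists_fac_of_etale_of_isSepClosed g.left t.left w hw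
  let l' : Over.mk ξ ⟶ W := Over.homMk l (by
    change l ≫ W.hom = ξ
    rw [← Over.w g, reassoc_of% h₁]
    exact Over.w t)
  have : t = l' ≫ g := Over.OverMorphism.ext h₁.symm
  rw [this, map_comp_apply', hg, map_zero]

theorem isOpen_vanishAt {T : Over S} (s : P.obj.obj (op T)) : IsOpen {v : T.left | VanishAt P s v} := by
  have h : {v : T.left | VanishAt P s v} =
      ⋃ (W : Over S) (g : W ⟶ T) (_ : Etale g.left) (_ : P.obj.map g.op s = 0), Set.range g.left := by
    ext v
    simp only [Set.mem_ofPred_eq, Set.mem_iUnion, Set.mem_range, VanishAt]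
    exact ⟨fun ⟨W, g, w, he, e, h⟩ => ⟨W, g, he, h, w, e⟩, fun ⟨W, g, he, h, w, e⟩ => ⟨W, g, w, he, e, h⟩⟩
  rw [h]
  refine isOpen_iUnion fun W => isOpen_iUnion fun g => isOpen_iUnion fun he => isOpen_iUnion fun _ => ?_
  exact g.left.isOpenMap.isOpen_range

theorem eq_zero_of_points (hP : IsRigid P) {T : Over S} (s : P.obj.obj (op T))
    (h : ∀ (Ω : Type u) [Field Ω] [IsSepClosed Ω] (ξ : Spec (CommRingCat.of Ω) ⟶ S)
      (t : Over.mk ξ ⟶ T), P.obj.map t.op s = 0) : s = 0 := by
  have hS : Presheaf.equalizerSieve (F := P.obj) s 0 ∈ QuotSh.J Scheme.etalePrecoverage S T := by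
    refine mem_of_forall_etale _ fun v => ?_
    obtain ⟨Ω, i₁, i₂, ξ, t, rfl⟩ := exists_point T v
    obtain ⟨W, g, w, he, hw, hg⟩ := hP T s Ω ξ t (h Ω ξ t)
    exact ⟨W, g, w, hg.trans (map_zero _).symm, he, hw⟩
  exact P.property.isSeparated _ _ hS s 0 fun V g hg => hg

theorem eq_of_points (hP : IsRigid P) {T : Over S} (s s' : P.obj.obj (op T))
    (h : ∀ (Ω : Type u) [Field Ω] [IsSepClosed Ω] (ξ : Spec (CommRingCat.of Ω) ⟶ S)
      (t : Over.mk ξ ⟶ T), P.obj.map t.op s = P.obj.map t.op s') : s = s' :=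
  sub_eq_zero.1 (eq_zero_of_points hP _ fun Ω _ _ ξ t => by rw [map_sub, h Ω ξ t, sub_self])

/-- `π⁻¹F` is rigid. -/
theorem isRigid_piEtPull (F : EtCoh.Ab S) :
    IsRigid ((BigSite.piEtPull Scheme.etalePrecoverage S).obj F) := by
  intro T s Ω _ _ ξ t hs
  let G := (BigSite.piEtPull Scheme.etalePrecoverage S).obj F
  let η := (BigSite.piEtAdj Scheme.etalePrecoverage S).unit.app F
  obtain ⟨W, g, w, U, x, u, he, hw, hu⟩ := exists_localForm F s (t.left (default : Spec (CommRingCat.of Ω)))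
  obtain ⟨l, h₁, h₂⟩ := Scheme.exists_fac_of_etale_of_isSepClosed g.left t.left w hw
  let l' : Over.mk ξ ⟶ W := Over.homMk l (by
    change l ≫ W.hom = ξ
    rw [← Over.w g, reassoc_of% h₁]
    exact Over.w t)
  have ht : t = l' ≫ g := Over.OverMorphism.ext h₁.symm
  rw [ht, map_comp_apply', hu, ← map_comp_apply'] at hs
  obtain ⟨θ, hθ, hθg⟩ := exists_stalk_comparison ξ F
  let y : (Scheme.pointSmallEtale ξ).fiber.obj U := l' ≫ x
  have h0 : germ ξ F U y u = germ ξ F U y 0 := by
    apply hθ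
    refine (hθg U y u).trans ((germ_eq_zero_of_map ξ G (l' ≫ x) _ hs).trans ?_)
    exact ((congrArg θ (map_zero (germ ξ F U y).hom)).trans (map_zero θ.hom)).symm
  obtain ⟨V, k, z, hz, hk⟩ := (germ_eq_iff ξ F U y u 0).1 h0
  rw [map_zero] at hk
  let k' : (EtFppf.a S).obj V ⟶ (EtFppf.a S).obj U := (EtFppf.a S).map k
  let W' : Over S := Over.mk (pullback.fst x.left k'.left ≫ W.hom)
  let p : W' ⟶ W := Over.homMk (pullback.fst x.left k'.left) rfl
  let q : W' ⟶ (EtFppf.a S).obj V := Over.homMk (pullback.snd x.left k'.left) (by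
    change _ ≫ ((EtFppf.a S).obj V).hom = pullback.fst x.left k'.left ≫ W.hom
    rw [← Over.w x, ← Over.w k', pullback.condition_assoc])
  have hpq : p ≫ x = q ≫ k' := Over.OverMorphism.ext pullback.condition
  have hk' : Etale k'.left := by
    haveI : Etale U.hom := U.prop
    haveI : Etale (k.left ≫ U.hom) := by rw [MorphismProperty.Over.w k]; exact V.prop
    exact Etale.of_comp k.left U.hom
  have hzl : z.left ≫ k'.left = l ≫ x.left :=
    congrArg (fun m : Over.mk ξ ⟶ (EtFppf.a S).obj U => m.left) hz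
  let w' : Spec (CommRingCat.of Ω) ⟶ W'.left := pullback.lift l z.left hzl.symm
  refine ⟨W', p ≫ g, w' (default : Spec (CommRingCat.of Ω)), ?_, ?_, ?_⟩
  · haveI : Etale p.left := MorphismProperty.pullback_fst (P := @Etale) x.left k'.left hk'
    exact MorphismProperty.comp_mem @Etale p.left g.left inferInstance he
  · change g.left ((w' ≫ p.left) (default : Spec (CommRingCat.of Ω))) = _
    rw [show w' ≫ p.left = l from pullback.lift_fst _ _ _, h₂, hw]
  · rw [map_comp_apply', hu, ← map_comp_apply', hpq, map_comp_apply',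
      show G.obj.map k'.op (η.hom.app (op U) u) = η.hom.app (op V) (F.obj.map k.op u) from
        (NatTrans.naturality_apply η.hom k.op u).symm, hk]
    exact (congrArg (G.obj.map q.op) (map_zero (η.hom.app (op V)).hom)).trans (map_zero (G.obj.map q.op).hom)

section Descent

variable (hP : IsRigid P) {T : Over S} (R : Sieve T)
  (hloc : ∀ (Y : Over S) (s : P.obj.obj (op Y)) (y : Y.left), ∃ (W : Over S) (g : W ⟶ Y) (w : W.left)
    (_ : Etale g.left) (_ : g.left w = y) (U : Over S) (x : W ⟶ U) (c : P.obj.obj (op U))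
    (_ : Etale U.hom), P.obj.map g.op s = P.obj.map x.op c)

include hP hloc in
/-- Rigid sheaves satisfy descent for sieves that are surjective and detect openness after étale
base change. -/
theorem isSheafFor_of_submersive (hsurj : ∀ v : T.left, ∃ (Y : Over S) (k : Y ⟶ T) (y : Y.left),
      R k ∧ k.left y = v)
    (hopen : ∀ (W : Over S) (g : W ⟶ T), Etale g.left → ∀ O : Set W.left,
      (∀ (Y : Over S) (k : Y ⟶ T), R k →
        IsOpen ((pullback.fst g.left k.left).base ⁻¹' O)) → IsOpen O) :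
    Presieve.IsSheafFor (P.obj ⋙ forget AddCommGrpCat.{u + 1}) R.arrows := by
  intro x hx
  have hc : ∀ {Z Y₁ Y₂ : Over S} (a : Z ⟶ Y₁) (b : Z ⟶ Y₂) {k₁ : Y₁ ⟶ T} {k₂ : Y₂ ⟶ T} (h₁ : R k₁)
      (h₂ : R k₂), a ≫ k₁ = b ≫ k₂ → P.obj.map a.op (x k₁ h₁) = P.obj.map b.op (x k₂ h₂) :=
    fun a b _ _ h₁ h₂ e => hx a b h₁ h₂ e
  -- uniqueness
  have huniq : ∀ (W : Over S) (g : W ⟶ T) (t₁ t₂ : P.obj.obj (op W)),
      (∀ (Z Y : Over S) (a : Z ⟶ W) (b : Z ⟶ Y) (k : Y ⟶ T) (hk : R k), a ≫ g = b ≫ k →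
        P.obj.map a.op t₁ = P.obj.map a.op t₂) → t₁ = t₂ := by
    intro W g t₁ t₂ h
    refine sub_eq_zero.1 (eq_zero_of_points hP _ fun Ω _ _ ξ t => ?_)
    obtain ⟨Y, k, y, hk, hy⟩ := hsurj (g.left (t.left (default : Spec (CommRingCat.of Ω))))
    obtain ⟨c, hc1, -⟩ := Scheme.Pullback.exists_preimage_pullback (f := g.left) (g := k.left)
      (t.left (default : Spec (CommRingCat.of Ω))) y hy.symm
    let Z : Over S := Over.mk (pullback.fst g.left k.left ≫ W.hom)
    let a : Z ⟶ W := Over.homMk (pullback.fst g.left k.left) rfl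
    let b : Z ⟶ Y := Over.homMk (pullback.snd g.left k.left) (by
      change _ ≫ Y.hom = pullback.fst g.left k.left ≫ W.hom
      rw [← Over.w g, ← Over.w k, pullback.condition_assoc])
    have h0 : P.obj.map a.op (t₁ - t₂) = 0 := by
      rw [map_sub, h Z Y a b k hk (Over.OverMorphism.ext pullback.condition), sub_self]
    obtain ⟨Ω', i₁, i₂, ξ', c', hc'⟩ := exists_point Z c
    have hv : VanishAt P (t₁ - t₂) (t.left (default : Spec (CommRingCat.of Ω))) := by
      have := hP W (t₁ - t₂) Ω' ξ' (c' ≫ a) (by rw [map_comp_apply', h0, map_zero])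
      rwa [show (c' ≫ a).left (default : Spec (CommRingCat.of Ω')) = t.left (default : Spec (CommRingCat.of Ω)) by
        rw [Over.comp_left, Scheme.Hom.comp_apply, hc']; exact hc1] at this
    exact map_eq_zero_of_vanishAt t hv
  let Good : Sieve T :=
    { arrows := fun W g => ∃ t : P.obj.obj (op W), ∀ (Z Y : Over S) (a : Z ⟶ W) (b : Z ⟶ Y)
        (k : Y ⟶ T) (hk : R k), a ≫ g = b ≫ k → P.obj.map a.op t = P.obj.map b.op (x k hk)
      downward_closed := fun {W W' g} ⟨t, ht⟩ j => ⟨P.obj.map j.op t, fun Z Y a b k hk e => by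
        rw [← map_comp_apply']
        exact ht Z Y (a ≫ j) b k hk ((Category.assoc _ _ _).trans e)⟩ }
  have hG : ∀ v : T.left, ∃ (W : Over S) (g : W ⟶ T) (w : W.left), Good g ∧ Etale g.left ∧ g.left w = v := by
    intro v
    obtain ⟨Y₀, k₀, y₀, hk₀, rfl⟩ := hsurj v
    obtain ⟨F₁, hF₁⟩ : ∃ F₁, F₁ = x k₀ hk₀ := ⟨_, rfl⟩
    obtain ⟨W₁, g₁, w₁, he₁, hw₁, U, x₁, c, hU, hu⟩ :
        ∃ (W₁ : Over S) (g₁ : W₁ ⟶ Y₀) (w₁ : W₁.left) (_ : Etale g₁.left) (_ : g₁.left w₁ = y₀)
          (U : Over S) (x₁ : W₁ ⟶ U) (c : P.obj.obj (op U)) (_ : Etale U.hom),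
          P.obj.map g₁.op F₁ = P.obj.map x₁.op c := hloc Y₀ F₁ y₀
    let W : Over S := Over.mk (pullback.fst T.hom U.hom ≫ T.hom)
    let gT : W ⟶ T := Over.homMk (pullback.fst T.hom U.hom) rfl
    let pU : W ⟶ U := Over.homMk (pullback.snd T.hom U.hom) pullback.condition.symm
    have hgT : Etale gT.left := MorphismProperty.pullback_fst (P := @Etale) T.hom U.hom hU
    let Wk : ∀ {Y : Over S}, (Y ⟶ T) → Over S := fun k => Over.mk (pullback.fst gT.left k.left ≫ W.hom)
    let pW : ∀ {Y : Over S} (k : Y ⟶ T), Wk k ⟶ W := fun k => Over.homMk (pullback.fst gT.left k.left) rfl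
    let pY : ∀ {Y : Over S} (k : Y ⟶ T), Wk k ⟶ Y := fun {Y} k =>
      Over.homMk (pullback.snd gT.left k.left) (by
        change _ ≫ Y.hom = pullback.fst gT.left k.left ≫ W.hom
        rw [← Over.w gT, ← Over.w k, pullback.condition_assoc])
    have hpWY : ∀ {Y : Over S} (k : Y ⟶ T), pW k ≫ gT = pY k ≫ k := fun k =>
      Over.OverMorphism.ext pullback.condition
    let d : ∀ {Y : Over S} (k : Y ⟶ T), R k → P.obj.obj (op (Wk k)) := fun k hk =>
      P.obj.map (pY k).op (x k hk) - P.obj.map (pW k ≫ pU).op c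
    let O : Set W.left := {z | ∃ (Y : Over S) (k : Y ⟶ T) (hk : R k) (z' : (Wk k).left),
      (pW k).left z' = z ∧ VanishAt P (d k hk) z'}
    have hsat : ∀ {Y : Over S} (k : Y ⟶ T) (hk : R k) (z' : (Wk k).left), (pW k).left z' ∈ O →
        VanishAt P (d k hk) z' := by
      rintro Y k hk z' ⟨Y₂, k₂, hk₂, z₂, e, hz₂⟩
      obtain ⟨q, hq1, hq2⟩ := Scheme.Pullback.exists_preimage_pullback (f := (pW k).left)
        (g := (pW k₂).left) z' z₂ e.symm
      let Q : Over S := Over.mk (pullback.fst (pW k).left (pW k₂).left ≫ (Wk k).hom)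
      let a : Q ⟶ Wk k := Over.homMk (pullback.fst (pW k).left (pW k₂).left) rfl
      let b : Q ⟶ Wk k₂ := Over.homMk (pullback.snd (pW k).left (pW k₂).left) (by
        change _ ≫ (Wk k₂).hom = pullback.fst (pW k).left (pW k₂).left ≫ (Wk k).hom
        rw [← Over.w (pW k₂), ← Over.w (pW k), pullback.condition_assoc])
      have hab : a ≫ pW k = b ≫ pW k₂ := Over.OverMorphism.ext pullback.condition
      have hd : P.obj.map a.op (d k hk) = P.obj.map b.op (d k₂ hk₂) := by
        simp only [d, map_sub, ← map_comp_apply', reassoc_of% hab]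
        congr 1
        rw [map_comp_apply', map_comp_apply']
        simp only [← map_comp_apply']
        rw [map_comp_apply', map_comp_apply', ← map_comp_apply' P (A := Q), ← map_comp_apply' P (A := Q)]
        refine hc (a ≫ pY k) (b ≫ pY k₂) hk hk₂ ?_
        rw [Category.assoc, Category.assoc, ← hpWY, ← hpWY, reassoc_of% hab]
      obtain ⟨Ω', i₁, i₂, ξ', q', hq'⟩ := exists_point Q q
      have h0 : P.obj.map (q' ≫ a).op (d k hk) = 0 := by
        rw [map_comp_apply', hd, ← map_comp_apply']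
        refine map_eq_zero_of_vanishAt _ ?_
        rwa [show (q' ≫ b).left (default : Spec (CommRingCat.of Ω')) = z₂ by
          rw [Over.comp_left, Scheme.Hom.comp_apply, hq']; exact hq2]
      have := hP _ _ Ω' ξ' (q' ≫ a) h0
      rwa [show (q' ≫ a).left (default : Spec (CommRingCat.of Ω')) = z' by
        rw [Over.comp_left, Scheme.Hom.comp_apply, hq']; exact hq1] at this
    have hO : IsOpen O := hopen W gT hgT O fun Y k hk => by
      have : (pullback.fst gT.left k.left).base ⁻¹' O = {z' : (Wk k).left | VanishAt P (d k hk) z'} :=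
        Set.ext fun z' => ⟨hsat k hk z', fun h => ⟨Y, k, hk, z', rfl, h⟩⟩
      rw [this]
      exact isOpen_vanishAt _
    let ψW : W₁ ⟶ W := Over.homMk (pullback.lift (g₁ ≫ k₀).left x₁.left
      ((Over.w (g₁ ≫ k₀)).trans (Over.w x₁).symm)) (by
        change pullback.lift _ _ _ ≫ pullback.fst T.hom U.hom ≫ T.hom = _
        rw [pullback.lift_fst_assoc]
        exact Over.w (g₁ ≫ k₀))
    have hψT : ψW ≫ gT = g₁ ≫ k₀ := Over.OverMorphism.ext (pullback.lift_fst _ _ _)
    have hψU : ψW ≫ pU = x₁ := Over.OverMorphism.ext (pullback.lift_snd _ _ _)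
    let ψ : W₁ ⟶ Wk k₀ := Over.homMk (pullback.lift ψW.left g₁.left
      (congrArg (fun m : W₁ ⟶ T => m.left) hψT)) (by
        change pullback.lift _ _ _ ≫ pullback.fst gT.left k₀.left ≫ W.hom = _
        rw [pullback.lift_fst_assoc]
        exact Over.w ψW)
    have hψ1 : ψ ≫ pW k₀ = ψW := Over.OverMorphism.ext (pullback.lift_fst _ _ _)
    have hψ2 : ψ ≫ pY k₀ = g₁ := Over.OverMorphism.ext (pullback.lift_snd _ _ _)
    have hψd : P.obj.map ψ.op (d k₀ hk₀) = 0 := by
      simp only [d, map_sub, ← map_comp_apply', reassoc_of% hψ1, hψ2, hψU]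
      rw [← hF₁, hu, sub_self]
    obtain ⟨Ω', i₁, i₂, ξ', t₁, ht₁⟩ := exists_point W₁ w₁
    have hz : ψW.left w₁ ∈ O := by
      refine ⟨Y₀, k₀, hk₀, ψ.left w₁, congrArg (fun m : W₁ ⟶ W => m.left w₁) hψ1, ?_⟩
      have := hP _ _ Ω' ξ' (t₁ ≫ ψ) (by rw [map_comp_apply', hψd, map_zero])
      rwa [show (t₁ ≫ ψ).left (default : Spec (CommRingCat.of Ω')) = ψ.left w₁ by
        rw [Over.comp_left, Scheme.Hom.comp_apply, ht₁]] at this
    let Op : W.left.Opens := ⟨O, hO⟩
    let WO : Over S := Over.mk (Op.ι ≫ W.hom)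
    let jO : WO ⟶ W := Over.homMk Op.ι rfl
    refine ⟨WO, jO ≫ gT, (⟨ψW.left w₁, hz⟩ : Op), ⟨P.obj.map (jO ≫ pU).op c, ?_⟩, ?_, ?_⟩
    · intro Z Y a b k hk e
      let a' : Z ⟶ W := a ≫ jO
      have e' : a'.left ≫ gT.left = b.left ≫ k.left :=
        congrArg (fun m : Z ⟶ T => m.left) ((Category.assoc a jO gT).trans e)
      let ζ : Z ⟶ Wk k := Over.homMk (pullback.lift a'.left b.left e') (by
        change pullback.lift _ _ _ ≫ pullback.fst gT.left k.left ≫ W.hom = _
        rw [pullback.lift_fst_assoc]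
        exact Over.w a')
      have hζ1 : ζ ≫ pW k = a' := Over.OverMorphism.ext (pullback.lift_fst _ _ _)
      have hζ2 : ζ ≫ pY k = b := Over.OverMorphism.ext (pullback.lift_snd _ _ _)
      have h0 : P.obj.map ζ.op (d k hk) = 0 := eq_zero_of_points hP _ fun Ω _ _ ξ t => by
        rw [← map_comp_apply']
        refine map_eq_zero_of_vanishAt _ (hsat k hk _ ?_)
        have : (pW k).left ((t ≫ ζ).left (default : Spec (CommRingCat.of Ω))) =
            jO.left ((t ≫ a).left (default : Spec (CommRingCat.of Ω))) :=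
          congrArg (fun m : Over.mk ξ ⟶ W => m.left (default : Spec (CommRingCat.of Ω)))
            (show (t ≫ ζ) ≫ pW k = (t ≫ a) ≫ jO by rw [Category.assoc, hζ1, Category.assoc])
        rw [this]
        exact Subtype.coe_prop _
      simp only [d, map_sub, ← map_comp_apply', reassoc_of% hζ1, hζ2, sub_eq_zero] at h0
      rw [← map_comp_apply', h0]
      simp [a']
    · exact MorphismProperty.comp_mem @Etale jO.left gT.left (inferInstanceAs (Etale Op.ι)) hgT
    · change gT.left (ψW.left w₁) = k₀.left y₀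
      rw [← hw₁]
      exact congrArg (fun m : W₁ ⟶ T => m.left w₁) hψT
  have hGood : Good ∈ QuotSh.J Scheme.etalePrecoverage S T := mem_of_forall_etale _ hG
  let τ : Presieve.FamilyOfElements (P.obj ⋙ forget AddCommGrpCat.{u + 1}) Good.arrows :=
    fun W g hg => hg.choose
  have hτ : ∀ (W : Over S) (g : W ⟶ T) (hg : Good g) (Z Y : Over S) (a : Z ⟶ W) (b : Z ⟶ Y)
      (k : Y ⟶ T) (hk : R k), a ≫ g = b ≫ k → P.obj.map a.op (τ g hg) = P.obj.map b.op (x k hk) :=
    fun W g hg => hg.choose_spec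
  have hτc : τ.Compatible := by
    intro W₁ W₂ Z g₁ g₂ j₁ j₂ h₁ h₂ e
    refine huniq Z (g₁ ≫ j₁) _ _ fun Z' Y a b k hk e' => ?_
    change P.obj.map a.op (P.obj.map g₁.op (τ j₁ h₁)) = P.obj.map a.op (P.obj.map g₂.op (τ j₂ h₂))
    rw [← map_comp_apply', ← map_comp_apply',
      hτ W₁ j₁ h₁ Z' Y (a ≫ g₁) b k hk ((Category.assoc _ _ _).trans e'),
      hτ W₂ j₂ h₂ Z' Y (a ≫ g₂) b k hk ((Category.assoc _ _ _).trans (e ▸ e'))]
  have hsh := ((Presheaf.isSheaf_iff_isSheaf_forget _ P.obj (forget AddCommGrpCat.{u + 1})).1 P.property)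
  rw [isSheaf_iff_isSheaf_of_type] at hsh
  have hsf := hsh Good hGood
  refine ⟨hsf.amalgamate τ hτc, fun Y k hk => ?_, fun s hs => ?_⟩
  · refine eq_of_points hP _ _ fun Ω _ _ ξ t => ?_
    obtain ⟨W, g, w, hg, he, hw⟩ := hG (k.left (t.left (default : Spec (CommRingCat.of Ω))))
    obtain ⟨l, h₁, -⟩ := Scheme.exists_fac_of_etale_of_isSepClosed g.left (t ≫ k).left w hw
    let l' : Over.mk ξ ⟶ W := Over.homMk l (by
      change l ≫ W.hom = ξ
      rw [← Over.w g, reassoc_of% h₁]
      exact Over.w (t ≫ k))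
    have e : l' ≫ g = t ≫ k := Over.OverMorphism.ext h₁
    change P.obj.map t.op (P.obj.map k.op (hsf.amalgamate τ hτc)) = _
    rw [← map_comp_apply', ← e, map_comp_apply',
      show P.obj.map g.op (hsf.amalgamate τ hτc) = τ g hg from hsf.valid_glue hτc g hg]
    exact hτ W g hg _ Y l' t k hk e
  · refine hsf.isSeparatedFor.ext fun W g hg => ?_
    rw [show (P.obj ⋙ forget AddCommGrpCat.{u + 1}).map g.op (hsf.amalgamate τ hτc) = τ g hg from
      hsf.valid_glue hτc g hg]
    refine huniq W g _ _ fun Z Y a b k hk e => ?_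
    change P.obj.map a.op (P.obj.map g.op s) = P.obj.map a.op (τ g hg)
    rw [← map_comp_apply', e, map_comp_apply', hτ W g hg Z Y a b k hk e]
    exact congrArg _ (hs k hk)

end Descent

end Groth.Agent.BigBC
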