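import Groth.Agent.BigBC.Basic
import Groth.Agent.BigBC.SmallBig
import Groth.Agent.BigBC.Derived
import Groth.Agent.BigShriek.Basic
import Groth.Prelude.Def_EtBase

/-!
Big sites: `pullBig` and `resEtAlong` are exact and preserve injectives.
-/

set_option autoImplicit false

universe u

open CategoryTheory CategoryTheory.Limits AlgebraicGeometry Opposite

namespace Groth.Agent.BigBC

variable (K : Precoverage Scheme.{u}) {S T : Scheme.{u}} (f : T ⟶ S)

instance preservesFiniteColimits_pullBig :
    PreservesFiniteColimits (BigSite.pullBig K f AddCommGrpCat.{u + 1}) :=
  have := (BigSite.bigAdj K f AddCommGrpCat.{u + 1}).leftAdjoint_preservesColimits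
  inferInstance

instance preservesFiniteLimits_pullBig :
    PreservesFiniteLimits (BigSite.pullBig K f AddCommGrpCat.{u + 1}) :=
  have := (BigSite.shriekAbAdj K f).rightAdjoint_preservesLimits
  inferInstance

instance preservesInjective_resEtAlong :
    (BigSite.resEtAlong Scheme.etalePrecoverage f).PreservesInjectiveObjects where
  injective_obj := fun {I} hI => by
    have := Groth.Agent.BigShriek.preservesInjective_pullBig Scheme.etalePrecoverage f
    exact injective_resEt T _ _

instance preservesFiniteLimits_resEtAlong :
    PreservesFiniteLimits (BigSite.resEtAlong Scheme.etalePrecoverage f) :=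
  comp_preservesFiniteLimits _ _

instance preservesFiniteColimits_resEtAlong :
    PreservesFiniteColimits (BigSite.resEtAlong Scheme.etalePrecoverage f) :=
  comp_preservesFiniteColimits _ _

end Groth.Agent.BigBC
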