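import Groth.Agent.AdeqZar.Compare
import Groth.Agent.EtaleSite.Flasque
import Mathlib.AlgebraicGeometry.Sites.BigZariski

/-!
# Restriction from the big Zariski site to the small Zariski site is exact
-/

set_option autoImplicit false
set_option backward.isDefEq.respectTransparency false

universe u

open CategoryTheory CategoryTheory.Limits AlgebraicGeometry Opposite TopologicalSpace

noncomputable section

namespace Groth.Agent.BigBC.ZarCoh

open BigSite (Ab resZar)

variable {S : Scheme.{u}}

/-- A covering sieve of an open in the big Zariski site contains an open cover. -/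
theorem exists_open_mem {U : S.Opens} {R : Sieve ((BigSite.zarIncl S).obj U)}
    (hR : R ∈ QuotSh.J Scheme.zariskiPrecoverage S ((BigSite.zarIncl S).obj U)) (x : S) (hx : x ∈ U) :
    ∃ (V : S.Opens) (h : V ⟶ U), R.arrows ((BigSite.zarIncl S).map h) ∧ x ∈ V := by
  obtain ⟨𝒰, h𝒰⟩ := Scheme.exists_cover_of_mem_grothendieckTopology
    ((GrothendieckTopology.mem_over_iff _ _).1 hR)
  obtain ⟨i, z, hz⟩ := 𝒰.exists_eq (⟨x, hx⟩ : (U : Scheme.{u}))
  have : IsOpenImmersion (𝒰.f i) := 𝒰.map_prop i
  let g : 𝒰.X i ⟶ S := 𝒰.f i ≫ U.ι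
  have : IsOpenImmersion g := inferInstanceAs (IsOpenImmersion (𝒰.f i ≫ U.ι))
  have hVU : g.opensRange ≤ U := by
    rintro _ ⟨w, rfl⟩
    exact (𝒰.f i w).2
  refine ⟨g.opensRange, homOfLE hVU, ?_, ⟨z, ?_⟩⟩
  · have hm : R.arrows (Over.homMk (U := Over.mk g) (V := (BigSite.zarIncl S).obj U) (𝒰.f i) rfl) :=
      (Sieve.overEquiv_iff R (𝒰.f i)).1 (h𝒰 _ _ ⟨i⟩)
    have e : (BigSite.zarIncl S).map (homOfLE hVU) =
        (Over.isoMk g.isoOpensRange (by exact g.isoOpensRange_hom_ι) :
          Over.mk g ≅ (BigSite.zarIncl S).obj g.opensRange).inv ≫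
          Over.homMk (U := Over.mk g) (V := (BigSite.zarIncl S).obj U) (𝒰.f i) rfl :=
      AdeqZar.hom_ext S _ _
    rw [e]
    exact R.downward_closed hm _
  · change U.ι (𝒰.f i z) = x
    rw [hz]
    rfl

variable [BigSite.ZarCont Scheme.zariskiPrecoverage S]

attribute [local instance 2000] AdeqCoh.hasSheafify_big AdeqCoh.hasExt_big

theorem epi_resZar_map {F G : Ab Scheme.zariskiPrecoverage S} (g : F ⟶ G) [Epi g] :
    Epi ((resZar Scheme.zariskiPrecoverage S).map g) := by
  have hls : Sheaf.IsLocallySurjective g := (Sheaf.isLocallySurjective_iff_epi' _ _).2 inferInstance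
  have : Sheaf.IsLocallySurjective ((resZar Scheme.zariskiPrecoverage S).map g) :=
    ⟨fun {U} s x hx =>
      exists_open_mem (Presheaf.imageSieve_mem (QuotSh.J Scheme.zariskiPrecoverage S) g.hom s) x hx⟩
  exact Sheaf.epi_of_isLocallySurjective _

/-- Restriction to the small Zariski site has no higher derived functors. -/
theorem isZero_RresZar (F : Ab Scheme.zariskiPrecoverage S) (q : ℕ) (hq : 0 < q) :
    IsZero (((resZar Scheme.zariskiPrecoverage S).rightDerived q).obj F) := by
  obtain ⟨k, rfl⟩ : ∃ k, q = k + 1 := ⟨q - 1, by omega⟩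
  exact AdeqCoh.isZero_rightDerived_of_goodClass (resZar Scheme.zariskiPrecoverage S)
    (show ModShf.AcyclicRes.GoodClass (resZar Scheme.zariskiPrecoverage S) (fun _ => True) from
    ⟨fun _ _ => trivial, fun _ _ _ _ => trivial,
      fun C hC _ => by have := hC.epi_g; exact epi_resZar_map C.g⟩) k F trivial

end Groth.Agent.BigBC.ZarCoh
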